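import Mathlib

/-!
The Euler characteristic of a complex of projectives which is exact at the minimal primes.
-/

set_option autoImplicit false
set_option linter.style.haveILetI false
set_option linter.unusedSectionVars false
set_option backward.isDefEq.respectTransparency false
set_option backward.isDefEq.respectTransparency.types false

universe u

open CategoryTheory Limits

namespace Groth.Agent.PerfEuler

section Local

variable {B : Type u} [CommRing B] [IsLocalRing B] (L : ℤ → Type u) [∀ i, AddCommGroup (L i)]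
  [∀ i, Module B (L i)] [∀ i, Module.Finite B (L i)] [∀ i, Module.Projective B (L i)]
  (f : ∀ i, L i →ₗ[B] L (i + 1))

theorem ker_step (i : ℤ) (hex : LinearMap.range (f i) = LinearMap.ker (f (i + 1)))
    [Module.Finite B (LinearMap.ker (f (i + 1)))] [Module.Projective B (LinearMap.ker (f (i + 1)))] :
    Module.Finite B (LinearMap.ker (f i)) ∧ Module.Projective B (LinearMap.ker (f i)) ∧
      Module.finrank B (L i) = Module.finrank B (LinearMap.ker (f i)) +
        Module.finrank B (LinearMap.ker (f (i + 1))) := by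
  let g : L i →ₗ[B] LinearMap.ker (f (i + 1)) :=
    (f i).codRestrict _ fun x => hex.le (LinearMap.mem_range_self (f i) x)
  have hg : Function.Surjective g := fun z => by
    have hz : (z : L (i + 1)) ∈ LinearMap.range (f i) := hex.ge z.2
    obtain ⟨x, hx⟩ := hz
    exact ⟨x, Subtype.ext hx⟩
  obtain ⟨s, hs⟩ := Module.projective_lifting_property g LinearMap.id hg
  have hgs : ∀ z, g (s z) = z := fun z => LinearMap.congr_fun hs z
  have hk : LinearMap.ker g = LinearMap.ker (f i) := LinearMap.ker_codRestrict _ _ _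
  have hmem : ∀ x, x - s (g x) ∈ LinearMap.ker (f i) := fun x => by
    rw [← hk, LinearMap.mem_ker, map_sub, hgs, sub_self]
  let r : L i →ₗ[B] LinearMap.ker (f i) := (LinearMap.id - s ∘ₗ g).codRestrict _ hmem
  have hr : ∀ k : LinearMap.ker (f i), r k = k := fun k => by
    have : g k = 0 := by rw [← LinearMap.mem_ker, hk]; exact k.2
    exact Subtype.ext (by simp [r, this])
  haveI hp : Module.Projective B (LinearMap.ker (f i)) :=
    Module.Projective.of_split (LinearMap.ker (f i)).subtype r (LinearMap.ext hr)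
  haveI hf : Module.Finite B (LinearMap.ker (f i)) := Module.Finite.of_surjective r fun k => ⟨k, hr k⟩
  haveI : Module.Free B (LinearMap.ker (f i)) := Module.free_of_flat_of_isLocalRing
  haveI : Module.Free B (LinearMap.ker (f (i + 1))) := Module.free_of_flat_of_isLocalRing
  let e : L i ≃ₗ[B] LinearMap.ker (f i) × LinearMap.ker (f (i + 1)) :=
    LinearEquiv.ofBijective (r.prod g) ⟨fun x y h => by
      obtain ⟨h1, h2⟩ := Prod.ext_iff.1 h
      have h1' : x - s (g x) = y - s (g y) := congrArg Subtype.val h1
      rw [show g x = g y from h2] at h1'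
      exact sub_left_inj.1 h1',
      fun p => ⟨(p.1 : L i) + s p.2, by
        have hp1 : g (p.1 : L i) = 0 := by rw [← LinearMap.mem_ker, hk]; exact p.1.2
        refine Prod.ext (Subtype.ext ?_) ?_
        · simp [r, hp1, hgs]
        · simp [hp1, hgs]⟩⟩
  exact ⟨hf, hp, e.finrank_eq.trans Module.finrank_prod⟩

theorem sum_negOnePow_finrank_eq_zero (hex : ∀ i, LinearMap.range (f i) = LinearMap.ker (f (i + 1)))
    (a : ℤ) (n : ℕ) (h : ∀ i, i < a ∨ a + n < i → Subsingleton (L i)) :
    ∑ i ∈ Finset.Icc a (a + n), ((i.negOnePow : ℤˣ) : ℤ) * (Module.finrank B (L i) : ℤ) = 0 := by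
  have hZ : ∀ k : ℕ, Module.Finite B (LinearMap.ker (f (a + n + 1 - k))) ∧
      Module.Projective B (LinearMap.ker (f (a + n + 1 - k))) := by
    intro k
    induction k with
    | zero =>
      haveI := h (a + n + 1 - ((0 : ℕ) : ℤ)) (Or.inr (by omega))
      exact ⟨inferInstance, inferInstance⟩
    | succ k ih =>
      have e : (a + n + 1 - ((k + 1 : ℕ) : ℤ)) + 1 = a + n + 1 - k := by push_cast; ring
      rw [← e] at ih
      haveI := ih.1
      haveI := ih.2
      exact ⟨(ker_step L f _ (hex _)).1, (ker_step L f _ (hex _)).2.1⟩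
  let z : ℤ → ℤ := fun i => (Module.finrank B (LinearMap.ker (f i)) : ℤ)
  have hrec : ∀ i, i ≤ a + n → (Module.finrank B (L i) : ℤ) = z i + z (i + 1) := fun i hi => by
    obtain ⟨k, hk⟩ : ∃ k : ℕ, i + 1 = a + n + 1 - k := ⟨(a + n - i).toNat, by omega⟩
    have hF := hZ k
    rw [← hk] at hF
    haveI := hF.1
    haveI := hF.2
    simp only [z]
    exact_mod_cast (ker_step L f i (hex i)).2.2
  have htel : ∀ m : ℕ, (m : ℤ) ≤ n → ∑ i ∈ Finset.Icc a (a + m), ((i.negOnePow : ℤˣ) : ℤ) * (Module.finrank B (L i) : ℤ) =
      (a.negOnePow : ℤ) * z a + ((a + m).negOnePow : ℤ) * z (a + m + 1) := by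
    intro m
    induction m with
    | zero =>
      intro _
      simp only [Nat.cast_zero, add_zero, Finset.Icc_self, Finset.sum_singleton]
      rw [hrec a (by omega), mul_add]
    | succ m ih =>
      intro hm
      push_cast at hm
      have hI : Finset.Icc a (a + (m + 1 : ℕ)) = insert (a + (m + 1 : ℕ)) (Finset.Icc a (a + m)) := by
        ext i; simp only [Finset.mem_insert, Finset.mem_Icc]; push_cast; omega
      rw [hI, Finset.sum_insert (by simp), ih (by omega), hrec _ (by push_cast; omega)]
      push_cast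
      rw [← add_assoc a (m : ℤ) 1, Int.negOnePow_succ (a + m)]
      push_cast
      ring
  rw [htel n le_rfl]
  have h1 : z (a + n + 1) = 0 := by
    haveI := h (a + n + 1) (Or.inr (by omega))
    simp only [z, Nat.cast_eq_zero]
    exact Module.finrank_zero_of_subsingleton
  have h2 : z a = 0 := by
    haveI := h (a - 1) (Or.inl (by omega))
    have hker : LinearMap.ker (f (a - 1 + 1)) = ⊥ := by
      rw [← hex (a - 1), LinearMap.range_eq_bot]
      exact Subsingleton.elim _ _
    rw [sub_add_cancel] at hker
    haveI : Subsingleton (LinearMap.ker (f a)) := by rw [hker]; infer_instance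
    simp only [z, Nat.cast_eq_zero]
    exact Module.finrank_zero_of_subsingleton
  rw [h1, h2]; ring

end Local

variable {A : Type u} [CommRing A] (P : CochainComplex (ModuleCat.{u} A) ℤ)

theorem exists_smul_mem_range {S : Submonoid A} {i j k : ℤ} (hij : i + 1 = j) (hjk : j + 1 = k)
    (hS : Subsingleton (LocalizedModule S (P.homology j))) (x : P.X j) (hx : (P.d j k).hom x = 0) :
    ∃ u ∈ S, ∃ y, (P.d i j).hom y = u • x := by
  have e : P.homology j ≅ (P.sc' i j k).homology :=
    ShortComplex.homologyMapIso (P.isoSc' i j k (by simp; omega) (by simp; omega))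
  let iso := (e ≪≫ (P.sc' i j k).moduleCatHomologyIso).toLinearEquiv
  let q : (P.sc' i j k).moduleCatLeftHomologyData.H :=
    (LinearMap.range (P.sc' i j k).moduleCatToCycles).mkQ ⟨x, hx⟩
  obtain ⟨u, hu, h0⟩ := LocalizedModule.subsingleton_iff.1 hS (iso.symm q)
  rw [← map_smul, LinearEquiv.map_eq_zero_iff] at h0
  have : u • (⟨x, hx⟩ : LinearMap.ker (P.sc' i j k).g.hom) ∈ LinearMap.range (P.sc' i j k).moduleCatToCycles := by
    rw [← Submodule.Quotient.mk_eq_zero]
    exact h0
  obtain ⟨y, hy⟩ := this
  exact ⟨u, hu, y, congrArg Subtype.val hy⟩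

theorem euler_rankAtStalk_eq_zero (s : Finset ℤ) (hP : ∀ i : ℤ, Module.Finite A (P.X i) ∧ Module.Projective A (P.X i))
    (hs : ∀ i : ℤ, i ∉ s → IsZero (P.X i))
    (hsupp : ∀ q : PrimeSpectrum A, q.asIdeal ∈ minimalPrimes A → ∀ i : ℤ,
      Subsingleton (LocalizedModule q.asIdeal.primeCompl (P.homology i))) (x : PrimeSpectrum A) :
    (s.sum fun i => ((i.negOnePow : ℤˣ) : ℤ) * (Module.rankAtStalk (R := A) (P.X i) x : ℤ)) = 0 := by
  haveI := fun i => (hP i).1
  haveI := fun i => (hP i).2
  obtain ⟨q₀, hq₀, hle⟩ := Ideal.exists_minimalPrimes_le (I := (⊥ : Ideal A)) (J := x.asIdeal) bot_le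
  have hq₀p : q₀.IsPrime := hq₀.1.1
  let q : PrimeSpectrum A := ⟨q₀, hq₀p⟩
  simp only [← Module.rankAtStalk_eq_of_le_of_finite_of_flat (P.X _) (p := q) (q := x) hle]
  let S := q.asIdeal.primeCompl
  let L := fun i => LocalizedModule S (P.X i)
  let f : ∀ i, L i →ₗ[Localization S] L (i + 1) := fun i =>
    (IsLocalizedModule.map S (LocalizedModule.mkLinearMap S (P.X i)) (LocalizedModule.mkLinearMap S (P.X (i + 1)))
      (P.d i (i + 1)).hom).extendScalarsOfIsLocalization S (Localization S)
  have hf : ∀ i (m : P.X i) (t : S), f i (LocalizedModule.mk m t) = LocalizedModule.mk ((P.d i (i + 1)).hom m) t :=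
    fun i m t => IsLocalizedModule.map_LocalizedModules S _ m t
  have hex : ∀ i, LinearMap.range (f i) = LinearMap.ker (f (i + 1)) := by
    intro i
    refine le_antisymm ?_ fun z => ?_
    · rintro _ ⟨z, rfl⟩
      induction z using LocalizedModule.induction_on with
      | h m t =>
        have h0 : (P.d (i + 1) (i + 1 + 1)).hom ((P.d i (i + 1)).hom m) = 0 :=
          ConcreteCategory.congr_hom (P.d_comp_d i (i + 1) (i + 1 + 1)) m
        rw [LinearMap.mem_ker, hf, hf, h0, LocalizedModule.zero_mk]
    · induction z using LocalizedModule.induction_on with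
      | h m t =>
        intro hz
        rw [LinearMap.mem_ker, hf, ← LocalizedModule.zero_mk t, LocalizedModule.mk_eq] at hz
        obtain ⟨c, hc⟩ := hz
        simp only [smul_zero, Submonoid.smul_def, smul_smul] at hc
        obtain ⟨u, hu, y, hy⟩ := exists_smul_mem_range P (i := i) rfl rfl (hsupp q hq₀ (i + 1))
          (((c : A) * (t : A)) • m) (by rw [map_smul, hc])
        refine ⟨LocalizedModule.mk y (⟨u, hu⟩ * c * t * t), ?_⟩
        rw [hf, LocalizedModule.mk_eq]
        refine ⟨1, ?_⟩
        simp only [hy, Submonoid.smul_def, Submonoid.coe_mul, Submonoid.coe_one, one_smul, smul_smul]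
        congr 1
        ring
  haveI : ∀ i, Module.Projective (Localization S) (L i) := fun i =>
    Module.projective_of_isLocalizedModule S (LocalizedModule.mkLinearMap S (P.X i))
  haveI : ∀ i, Module.Finite (Localization S) (L i) := fun i =>
    Module.Finite.of_isLocalizedModule S (LocalizedModule.mkLinearMap S (P.X i))
  let b : ℕ := s.sup Int.natAbs
  have hb : ∀ i ∈ s, -(b : ℤ) ≤ i ∧ i ≤ (b : ℤ) := fun i hi => by
    have : i.natAbs ≤ b := Finset.le_sup hi
    omega
  have hLs : ∀ i, i ∉ s → Subsingleton (L i) := fun i hi => by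
    haveI := ModuleCat.subsingleton_of_isZero (hs i hi)
    infer_instance
  have key := sum_negOnePow_finrank_eq_zero (B := Localization.AtPrime q.asIdeal) L f hex (-(b : ℤ)) (2 * b)
    fun i hi => hLs i fun hmem => by
      have := hb i hmem
      push_cast at hi
      omega
  refine Eq.trans (Finset.sum_subset (fun i hi => ?_) fun i _ hi => ?_) key
  · simp only [Finset.mem_Icc]
    have := hb i hi
    push_cast
    omega
  · haveI := ModuleCat.subsingleton_of_isZero (hs i hi)
    rw [Module.rankAtStalk_eq_zero_of_subsingleton]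
    simp

end Groth.Agent.PerfEuler
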